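import Groth.Agent.ProperFib.SetProper
import Groth.Agent.S9777
import Groth.Agent.FlatMisc.FibreDimScheme

/-!
# Dimensions of the fibres of a fibrewise clopen proper set
-/

set_option autoImplicit false
set_option backward.isDefEq.respectTransparency.types false

universe u

open CategoryTheory Limits AlgebraicGeometry TopologicalSpace Topology

namespace Groth.Agent.ProperFib.FibDim

/-- The dimension of the range of an embedding. -/
theorem dim_range {α β : Type*} [TopologicalSpace α] [TopologicalSpace β] {e : α → β} (he : IsEmbedding e)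
    {S : Set β} (hS : Set.range e = S) : topologicalKrullDim S = topologicalKrullDim α := by
  subst hS
  exact (IsHomeomorph.topologicalKrullDim_eq _ he.toHomeomorph.isHomeomorph).symm

/-- A scheme over a field is its own fibre. -/
theorem dim_fiber_field {K : Type u} [Field K] {T : Scheme.{u}} (t : T ⟶ Spec (CommRingCat.of K))
    (p : ↥(Spec (CommRingCat.of K))) : topologicalKrullDim ↥(t.fiber p) = topologicalKrullDim T := by
  have : Subsingleton ↥(Spec (CommRingCat.of K)) := inferInstanceAs (Subsingleton (PrimeSpectrum K))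
  have hr : Set.range (t.fiberι p) = Set.univ := by
    rw [t.range_fiberι]
    exact Set.eq_univ_of_forall fun x => Subsingleton.elim _ _
  refine (dim_range (t.fiberι p).isEmbedding hr).symm.trans ?_
  exact IsHomeomorph.topologicalKrullDim_eq _ (Homeomorph.Set.univ T).isHomeomorph

variable {X Y : Scheme.{u}} (f : X ⟶ Y) (Z : Set X)

/-- The dimension of a closed part of a fibre does not change under base change. -/
theorem dim_baseChange [LocallyOfFiniteType f] [QuasiCompact f] {T : Scheme.{u}} (h : T ⟶ Y) (a : T)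
    (hcl : IsClosed (f.fiberι (h a) ⁻¹' Z)) :
    topologicalKrullDim ↥(pullback.snd f h ⁻¹' {a} ∩ pullback.fst f h ⁻¹' Z) =
      topologicalKrullDim ↥(f ⁻¹' {h a} ∩ Z) := by
  obtain ⟨φ, hφ, hφz⟩ := SetProper.exists_fibre_map (f := f) h a
  let q := pullback.snd f h
  let I := Scheme.IdealSheafData.vanishingIdeal (⟨f.fiberι (h a) ⁻¹' Z, hcl⟩ : Closeds (f.fiber (h a)))
  let i := I.subschemeι
  have hri : Set.range i = f.fiberι (h a) ⁻¹' Z := by
    show Set.range I.subschemeι = _
    rw [Scheme.IdealSheafData.range_subschemeι, Scheme.IdealSheafData.coe_support_vanishingIdeal]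
    rfl
  let j := pullback.snd i φ
  have : IsClosedImmersion j := MorphismProperty.pullback_snd (P := @IsClosedImmersion) _ _ inferInstance
  have hsq := (IsPullback.of_hasPullback i φ).paste_vert hφ
  have : LocallyOfFiniteType (f.fiberToSpecResidueField (h a)) :=
    MorphismProperty.pullback_snd (P := @LocallyOfFiniteType) _ _ inferInstance
  have : QuasiCompact (f.fiberToSpecResidueField (h a)) :=
    MorphismProperty.pullback_snd (P := @QuasiCompact) _ _ inferInstance
  have hdim : topologicalKrullDim ↥(pullback i φ) = topologicalKrullDim ↥I.subscheme := by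
    have := Groth.Agent.S9777.result (i ≫ f.fiberToSpecResidueField (h a)) _
      (j ≫ q.fiberToSpecResidueField a) (pullback.fst i φ) hsq (IsLocalRing.closedPoint _)
    exact ((dim_fiber_field _ _).symm.trans (this.trans (dim_fiber_field _ _)))
  have e1 : Set.range (i ≫ f.fiberι (h a)) = f ⁻¹' {h a} ∩ Z := by
    rw [Scheme.Hom.comp_base, TopCat.coe_comp, Set.range_comp, hri, Set.image_preimage_eq_range_inter,
      f.range_fiberι]
  have e2 : Set.range (j ≫ q.fiberι a) = q ⁻¹' {a} ∩ pullback.fst f h ⁻¹' Z := by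
    rw [Scheme.Hom.comp_base, TopCat.coe_comp, Set.range_comp, Scheme.Pullback.range_snd, hri,
      ← q.range_fiberι a, ← Set.image_preimage_eq_range_inter]
    congr 1
    ext z
    simp only [Set.mem_preimage]
    rw [hφz]
  rw [dim_range (i ≫ f.fiberι (h a)).isEmbedding e1, dim_range (j ≫ q.fiberι a).isEmbedding e2, hdim]

/-- Over a generization the dimension of `Z` in the fibre is at most the dimension over `y`. -/
theorem dim_le [IsSeparated f] [LocallyOfFinitePresentation f] [QuasiCompact f] (y : Y)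
    (hy : SetProper.FibProper f Z y) (hop : IsOpen (f.fiberι y ⁻¹' Z))
    (hmeet : ∀ P : (pullback f (Spread.henPoint y)).Opens,
      IsClosed (P : Set ↑(pullback f (Spread.henPoint y))) →
      (∀ x, pullback.snd f (Spread.henPoint y) x = IsLocalRing.closedPoint _ →
        (x ∈ P ↔ pullback.fst f (Spread.henPoint y) x ∈ Z)) →
      ∀ x, pullback.fst f (Spread.henPoint y) x ∈ Z → x ∈ P)
    (y' : Y) (hy' : y' ⤳ y) (hcl : IsClosed (f.fiberι y' ⁻¹' Z)) :
    topologicalKrullDim ↥(f ⁻¹' {y'} ∩ Z) ≤ topologicalKrullDim ↥(f ⁻¹' {y} ∩ Z) := by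
  obtain ⟨P, hPc, hPp, hPs⟩ := SetProper.exists_clopen f Z y hy hop
  obtain ⟨a, rfl⟩ := SetProper.exists_henPoint_eq hy'
  let h := Spread.henPoint y
  let q := pullback.snd f h
  let g := P.ι ≫ q
  have : IsProper g := hPp
  have hdim : ∀ b, topologicalKrullDim ↥(g.fiber b) = topologicalKrullDim ↥(q ⁻¹' {b} ∩ (P : Set ↑(pullback f h))) := by
    intro b
    refine (dim_range (P.ι.isEmbedding.comp (g.fiberι b).isEmbedding) ?_).symm
    rw [Set.range_comp, g.range_fiberι]
    ext x
    exact ⟨fun ⟨v, hv, hvx⟩ => hvx ▸ ⟨hv, v.2⟩, fun hx => ⟨⟨x, hx.2⟩, hx.1, rfl⟩⟩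
  let s := IsLocalRing.closedPoint (Groth.Agent.Hens.Henselization (Y.presheaf.stalk y))
  have hmem : a ∈ {b | topologicalKrullDim ↥(g.fiber b) ≤ topologicalKrullDim ↥(g.fiber s)} :=
    (IsLocalRing.specializes_closedPoint a).mem_open
      (FlatMisc.FibreDimScheme.isOpen_topDim_fiber_le g _) (Set.mem_ofPred_eq.symm ▸ (le_refl (topologicalKrullDim ↥(g.fiber s))) : s ∈ {b | topologicalKrullDim ↥(g.fiber b) ≤ topologicalKrullDim ↥(g.fiber s)})
  rw [Set.mem_ofPred_eq, hdim, hdim] at hmem
  have hs : h s = y := Spread.henPoint_closedPoint y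
  calc topologicalKrullDim ↥(f ⁻¹' {h a} ∩ Z)
      = topologicalKrullDim ↥(q ⁻¹' {a} ∩ pullback.fst f h ⁻¹' Z) := (dim_baseChange f Z h a hcl).symm
    _ ≤ topologicalKrullDim ↥(q ⁻¹' {a} ∩ (P : Set ↑(pullback f h))) := by
      have hsub : q ⁻¹' {a} ∩ pullback.fst f h ⁻¹' Z ⊆ q ⁻¹' {a} ∩ (P : Set ↑(pullback f h)) :=
        fun x hx => ⟨hx.1, hmeet P hPc hPs x hx.2⟩
      exact (IsEmbedding.inclusion hsub).isInducing.topologicalKrullDim_le
    _ ≤ topologicalKrullDim ↥(q ⁻¹' {s} ∩ (P : Set ↑(pullback f h))) := hmem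
    _ = topologicalKrullDim ↥(q ⁻¹' {s} ∩ pullback.fst f h ⁻¹' Z) := by
      congr 2
      all_goals (ext x; exact ⟨fun hx => ⟨hx.1, (hPs x hx.1).1 hx.2⟩, fun hx => ⟨hx.1, (hPs x hx.1).2 hx.2⟩⟩)
    _ = topologicalKrullDim ↥(f ⁻¹' {h s} ∩ Z) := dim_baseChange f Z h s (by
      rw [hs]
      exact hy.isClosed)
    _ = topologicalKrullDim ↥(f ⁻¹' {y} ∩ Z) := by rw [hs]

end Groth.Agent.ProperFib.FibDim
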