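import Groth.Agent.ProperFib.Spread
import Groth.Agent.Hens.FibreIdempotent
import Groth.Agent.FDesc.ProConsClosure
import Groth.Agent.FDesc.ProConsImage

/-!
# Properness near a point of a constructible set which is fibrewise clopen

`Z` is a locally constructible subset of `X`, open and closed in the fibres over the generizations
of `y`, proper in the fibre over `y`, and such that over the henselization at each generization a
clopen set containing the closed fibre of `Z` contains `Z`.  Then `Z` is proper over a neighbourhood.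
-/

set_option autoImplicit false
set_option backward.isDefEq.respectTransparency.types false

universe u

open CategoryTheory Limits AlgebraicGeometry TopologicalSpace Topology

namespace Groth.Agent.ProperFib.SetProper

variable {X Y : Scheme.{u}}

/-- Properness only depends on the support, and passes to smaller closed subschemes. -/
theorem isProper_of_range_subset {T T' : Scheme.{u}} (f : X ⟶ Y) [IsSeparated f]
    [LocallyOfFiniteType f] (i : T ⟶ X) [IsClosedImmersion i] (j : T' ⟶ X) [IsClosedImmersion j]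
    (hr : Set.range j ⊆ Set.range i) (hp : IsProper (i ≫ f)) : IsProper (j ≫ f) := by
  let a := pullback.fst i j
  let b := pullback.snd i j
  have : IsClosedImmersion a := MorphismProperty.pullback_fst (P := @IsClosedImmersion) _ _ inferInstance
  have : Surjective b := ⟨fun z => by
    obtain ⟨w, hw⟩ := hr ⟨z, rfl⟩
    obtain ⟨x, -, hx⟩ := Scheme.Pullback.exists_preimage_pullback (f := i) (g := j) w z hw
    exact ⟨x, hx⟩⟩
  have : UniversallyClosed (b ≫ j ≫ f) := by
    rw [← Category.assoc, ← pullback.condition, Category.assoc]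
    infer_instance
  have := UniversallyClosed.of_comp_surjective b (j ≫ f)
  exact { }

variable (f : X ⟶ Y) (Z : Set X)

/-- The part of `Z` in the fibre over `y` is closed and proper over the residue field. -/
def FibProper (y : Y) : Prop :=
  ∃ (T : Scheme.{u}) (i : T ⟶ f.fiber y), IsClosedImmersion i ∧
    Set.range i = f.fiberι y ⁻¹' Z ∧ IsProper (i ≫ f.fiberToSpecResidueField y)

theorem fibProper_of_isOpen [IsSeparated f] (y : Y) (hop : IsOpen (f.fiberι y ⁻¹' Z))
    (hp : IsProper (Scheme.Opens.ι (⟨f.fiberι y ⁻¹' Z, hop⟩ : (f.fiber y).Opens) ≫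
      f.fiberToSpecResidueField y)) : FibProper f Z y := by
  let W : (f.fiber y).Opens := ⟨f.fiberι y ⁻¹' Z, hop⟩
  have : IsSeparated (f.fiberToSpecResidueField y) :=
    MorphismProperty.pullback_snd (P := @IsSeparated) _ _ inferInstance
  have : IsProper W.ι := IsProper.of_comp W.ι (f.fiberToSpecResidueField y)
  refine ⟨W.toScheme, W.ι, IsClosedImmersion.of_isPreimmersion _ W.ι.isClosedMap.isClosed_range, ?_, hp⟩
  rw [Scheme.Opens.range_ι]
  rfl

variable {f Z}

theorem FibProper.isClosed {y : Y} (h : FibProper f Z y) : IsClosed (f.fiberι y ⁻¹' Z) := by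
  obtain ⟨T, i, _, hr, -⟩ := h
  exact hr ▸ i.isClosedEmbedding.isClosed_range

/-- The comparison of the fibres of a base change. -/
theorem exists_fibre_map {T : Scheme.{u}} (h : T ⟶ Y) (a : T) :
    ∃ φ : (pullback.snd f h).fiber a ⟶ f.fiber (h a),
      IsPullback φ ((pullback.snd f h).fiberToSpecResidueField a) (f.fiberToSpecResidueField (h a))
        (Spec.map (h.residueFieldMap a)) ∧
      ∀ z, f.fiberι (h a) (φ z) = pullback.fst f h ((pullback.snd f h).fiberι a z) := by
  refine ⟨_, isPullback_fiberToSpecResidueField_of_isPullback (IsPullback.of_hasPullback f h) a,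
    fun z => ?_⟩
  rw [← Scheme.Hom.comp_apply, ← Scheme.Hom.comp_apply]
  refine congrArg (fun m => (m : _ ⟶ X) z) ?_
  exact pullback.lift_fst _ _ _

theorem FibProper.baseChange {T : Scheme.{u}} (h : T ⟶ Y) (a : T) (hp : FibProper f Z (h a)) :
    FibProper (pullback.snd f h) (pullback.fst f h ⁻¹' Z) a := by
  obtain ⟨φ, hφ, hφz⟩ := exists_fibre_map (f := f) h a
  obtain ⟨T₀, i, _, hr, hi⟩ := hp
  refine ⟨pullback i φ, pullback.snd i φ,
    MorphismProperty.pullback_snd (P := @IsClosedImmersion) _ _ inferInstance, ?_, ?_⟩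
  · rw [Scheme.Pullback.range_snd, hr]
    ext z
    simp only [Set.mem_preimage]
    rw [hφz]
  · exact MorphismProperty.of_isPullback ((IsPullback.of_hasPullback i φ).paste_vert hφ) hi

theorem isOpen_baseChange {T : Scheme.{u}} (h : T ⟶ Y) (a : T)
    (hop : IsOpen (f.fiberι (h a) ⁻¹' Z)) :
    IsOpen ((pullback.snd f h).fiberι a ⁻¹' (pullback.fst f h ⁻¹' Z)) := by
  obtain ⟨φ, -, hφz⟩ := exists_fibre_map (f := f) h a
  convert hop.preimage φ.continuous using 1
  ext z
  simp only [Set.mem_preimage]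
  rw [hφz]

/-- If over some point of the base change `Z` lies in a proper clopen, then `Z` is proper in the
fibre below. -/
theorem fibProper_of_subset [IsSeparated f] [LocallyOfFiniteType f] {T : Scheme.{u}} (h : T ⟶ Y) (a : T)
    (hcl : IsClosed (f.fiberι (h a) ⁻¹' Z)) (P : (pullback f h).Opens)
    (hPc : IsClosed (P : Set ↑(pullback f h))) (hPp : IsProper (P.ι ≫ pullback.snd f h))
    (hsub : ∀ x, pullback.snd f h x = a → pullback.fst f h x ∈ Z → x ∈ P) :
    FibProper f Z (h a) := by
  obtain ⟨φ, hφ, hφz⟩ := exists_fibre_map (f := f) h a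
  let q := pullback.snd f h
  let C : Closeds (f.fiber (h a)) := ⟨f.fiberι (h a) ⁻¹' Z, hcl⟩
  let I := Scheme.IdealSheafData.vanishingIdeal C
  let i := I.subschemeι
  have hri : Set.range i = f.fiberι (h a) ⁻¹' Z := by
    show Set.range I.subschemeι = _
    rw [Scheme.IdealSheafData.range_subschemeι, Scheme.IdealSheafData.coe_support_vanishingIdeal]
    rfl
  have : IsClosedImmersion P.ι :=
    IsClosedImmersion.of_isPreimmersion _ (by rw [Scheme.Opens.range_ι]; exact hPc)
  let k := pullback.snd P.ι (q.fiberι a)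
  have : IsClosedImmersion k := MorphismProperty.pullback_snd (P := @IsClosedImmersion) _ _ inferInstance
  have hk : IsProper (k ≫ q.fiberToSpecResidueField a) :=
    MorphismProperty.of_isPullback
      ((IsPullback.of_hasPullback P.ι (q.fiberι a)).paste_vert
        (IsPullback.of_hasPullback q (T.fromSpecResidueField a))) hPp
  let j := pullback.snd i φ
  have : IsClosedImmersion j := MorphismProperty.pullback_snd (P := @IsClosedImmersion) _ _ inferInstance
  have : IsSeparated (q.fiberToSpecResidueField a) :=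
    MorphismProperty.pullback_snd (P := @IsSeparated) _ _ inferInstance
  have : LocallyOfFiniteType (q.fiberToSpecResidueField a) :=
    MorphismProperty.pullback_snd (P := @LocallyOfFiniteType) _ _ inferInstance
  have hjk : Set.range j ⊆ Set.range k := by
    rw [Scheme.Pullback.range_snd, Scheme.Pullback.range_snd, hri, Scheme.Opens.range_ι]
    intro z hz
    simp only [Set.mem_preimage, SetLike.mem_coe] at hz ⊢
    exact hsub _ ((q.range_fiberι a).le ⟨z, rfl⟩) (hφz z ▸ hz)
  have hj : IsProper (j ≫ q.fiberToSpecResidueField a) :=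
    isProper_of_range_subset _ k j hjk hk
  refine ⟨_, i, inferInstance, hri, ?_⟩
  have := Groth.Agent.FpqcDesc.descendsAlong_isProper.{u}
  refine MorphismProperty.of_isPullback_of_descendsAlong (P := @IsProper)
    (Q := (@Surjective ⊓ @Flat ⊓ @QuasiCompact : MorphismProperty Scheme.{u}))
    ((IsPullback.of_hasPullback i φ).paste_vert hφ).flip ?_ hj
  exact ⟨⟨inferInstance, inferInstance⟩, inferInstance⟩

theorem flat_henPoint (y : Y) : Flat (Spread.henPoint y) := by
  have : Flat (Spec.map (CommRingCat.ofHom (algebraMap (Y.presheaf.stalk y)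
      (Groth.Agent.Hens.Henselization (Y.presheaf.stalk y))))) :=
    Flat.SpecMap_iff.2 (RingHom.flat_algebraMap_iff.2 inferInstance)
  exact MorphismProperty.comp_mem _ _ _ this (Groth.Agent.Hens.FibreIdempotent.flat_fromSpecStalk y)

theorem exists_henPoint_eq {y y' : Y} (h : y' ⤳ y) :
    ∃ a : ↥(Spec (CommRingCat.of (Groth.Agent.Hens.Henselization (Y.presheaf.stalk y)))),
      Spread.henPoint y a = y' := by
  obtain ⟨b, hb⟩ := (Scheme.range_fromSpecStalk (X := Y) (x := y)).ge h
  obtain ⟨a, ha⟩ := PrimeSpectrum.comap_surjective_of_faithfullyFlat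
    (A := Y.presheaf.stalk y) (B := Groth.Agent.Hens.Henselization (Y.presheaf.stalk y)) b
  refine ⟨a, ?_⟩
  rw [Spread.henPoint, Scheme.Hom.comp_apply]
  exact (congrArg (fun w => Y.fromSpecStalk y w) ha).trans hb

theorem henPoint_specializes (y : Y)
    (a : ↥(Spec (CommRingCat.of (Groth.Agent.Hens.Henselization (Y.presheaf.stalk y))))) :
    Spread.henPoint y a ⤳ y := by
  have := (IsLocalRing.specializes_closedPoint a).map (Spread.henPoint y).continuous
  rwa [Spread.henPoint_closedPoint] at this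

/-- Over a henselian local ring, a clopen proper part of the closed fibre extends to a proper clopen. -/
theorem exists_clopen_henselian {A : Type u} [CommRing A] [HenselianLocalRing A] {XA : Scheme.{u}}
    (q : XA ⟶ Spec (CommRingCat.of A)) [IsSeparated q] [LocallyOfFinitePresentation q] [QuasiCompact q]
    (W : Set XA) (hy' : FibProper q W (IsLocalRing.closedPoint A))
    (hop' : IsOpen (q.fiberι (IsLocalRing.closedPoint A) ⁻¹' W)) :
    ∃ P : XA.Opens, IsClosed (P : Set XA) ∧ IsProper (P.ι ≫ q) ∧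
      ∀ x, q x = IsLocalRing.closedPoint A → (x ∈ P ↔ x ∈ W) := by
  let s : ↥(Spec (CommRingCat.of A)) := IsLocalRing.closedPoint A
  have hscl := IsLocalRing.isClosed_singleton_closedPoint A
  have : IsClosedImmersion ((Spec (CommRingCat.of A)).fromSpecResidueField s) :=
    isClosed_singleton_iff_isClosedImmersion.1 hscl
  have : IsClosedImmersion (q.fiberι s) :=
    MorphismProperty.pullback_fst (P := @IsClosedImmersion) _ _ inferInstance
  let O : Set ↑XA := (q.fiberι s '' (q.fiberι s ⁻¹' W)ᶜ)ᶜ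
  have hO : IsOpen O := ((q.fiberι s).isClosedEmbedding.isClosedMap _ hop'.isClosed_compl).isOpen_compl
  let C : Set ↑XA := q.fiberι s '' (q.fiberι s ⁻¹' W)
  have : CompactSpace ↥(q.fiber s) := inferInstance
  have hC : IsCompact C := hy'.isClosed.isCompact.image (q.fiberι s).continuous
  have hmemC : ∀ x, q x = s → (x ∈ C ↔ x ∈ W) := fun x hx => by
    obtain ⟨z, rfl⟩ := (q.range_fiberι s).ge hx
    exact (q.fiberι s).isEmbedding.injective.mem_set_image
  have hCO : C ⊆ O := by
    rintro _ ⟨z, hz, rfl⟩ ⟨z', hz', e⟩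
    exact hz' ((q.fiberι s).isEmbedding.injective e ▸ hz)
  obtain ⟨V₀, hV₀c, hV₀o, hCV, hVO⟩ := PrespectralSpace.exists_isCompact_and_isOpen_between hC hO hCO
  let V : XA.Opens := ⟨V₀, hV₀o⟩
  have : CompactSpace V.toScheme := isCompact_iff_compactSpace.1 hV₀c
  have : QuasiSeparatedSpace ↑XA := quasiSeparatedSpace_of_quasiSeparated q
  have : QuasiCompact V.ι := quasiCompact_of_compactSpace V.ι
  let f' := V.ι ≫ q
  have hmemV : ∀ x, q x = s → (x ∈ V ↔ x ∈ W) := fun x hx => by
    refine ⟨fun hV => by_contra fun hn => ?_, fun hW => hCV ((hmemC x hx).2 hW)⟩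
    obtain ⟨z, rfl⟩ := (q.range_fiberι s).ge hx
    exact hVO hV ⟨z, hn, rfl⟩
  have hfib : IsProper (f'.fiberToSpecResidueField s) := by
    obtain ⟨T, i, _, hri, hi⟩ := hy'
    let i₁ := f'.fiberι s ≫ V.ι
    let i₂ := i ≫ q.fiberι s
    have hr₂ : Set.range i₂ = C := by
      rw [Scheme.Hom.comp_base, TopCat.coe_comp, Set.range_comp, hri]
    have : IsClosedImmersion (f'.fiberι s) :=
      MorphismProperty.pullback_fst (P := @IsClosedImmersion) _ _ inferInstance
    have hr₁ : Set.range i₁ = C := by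
      rw [Scheme.Hom.comp_base, TopCat.coe_comp, Set.range_comp, f'.range_fiberι]
      ext x
      constructor
      · rintro ⟨v, hv, rfl⟩
        exact (hmemC _ hv).2 ((hmemV _ hv).1 v.2)
      · intro hx
        have hqx : q x = s := by
          obtain ⟨z, -, rfl⟩ := hx
          exact (q.range_fiberι s).le ⟨z, rfl⟩
        exact ⟨⟨x, hCV hx⟩, hqx, rfl⟩
    have : IsClosedImmersion i₁ :=
      IsClosedImmersion.of_isPreimmersion _ (by
        rw [hr₁, ← hr₂]; exact i₂.isClosedEmbedding.isClosed_range)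
    have hp₂ : IsProper (i₂ ≫ q) := by
      rw [Category.assoc, q.fiber_fac, ← Category.assoc]
      infer_instance
    have hp₁ : IsProper (i₁ ≫ q) := isProper_of_range_subset q i₂ i₁ (by rw [hr₁, hr₂]) hp₂
    have : IsProper (f'.fiberToSpecResidueField s ≫ (Spec (CommRingCat.of A)).fromSpecResidueField s) := by
      rw [← f'.fiber_fac]
      simpa [i₁, f'] using hp₁
    exact IsProper.of_comp _ ((Spec (CommRingCat.of A)).fromSpecResidueField s)
  have : LocallyOfFinitePresentation f' := MorphismProperty.comp_mem _ _ _ inferInstance inferInstance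
  obtain ⟨P₀, -, hP₀s, hP₀⟩ := Henselian.exists_isClopen_isProper f' hfib
  let P : XA.Opens := V.ι ''ᵁ P₀
  have hPr : (P : Set ↑XA) = Set.range (P₀.ι ≫ V.ι) := by
    rw [Scheme.Hom.comp_base, TopCat.coe_comp, Set.range_comp, Scheme.Opens.range_ι]
    exact Scheme.Hom.coe_image _
  have hP₁ : IsProper ((P₀.ι ≫ V.ι) ≫ q) := by rw [Category.assoc]; exact hP₀
  have : IsProper (P₀.ι ≫ V.ι) := IsProper.of_comp _ q
  have hPc : IsClosed (P : Set ↑XA) := hPr ▸ (P₀.ι ≫ V.ι).isClosedMap.isClosed_range
  have : IsClosedImmersion (P₀.ι ≫ V.ι) :=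
    IsClosedImmersion.of_isPreimmersion _ (hPr ▸ hPc)
  have : IsClosedImmersion P.ι :=
    IsClosedImmersion.of_isPreimmersion _ (by rw [Scheme.Opens.range_ι]; exact hPc)
  refine ⟨P, hPc, isProper_of_range_subset q (P₀.ι ≫ V.ι) P.ι (by rw [Scheme.Opens.range_ι, hPr]) hP₁,
    fun x hx => ⟨fun hP => ?_, fun hW => ?_⟩⟩
  · obtain ⟨v, -, rfl⟩ := hP
    exact (hmemV _ hx).1 v.2
  · exact ⟨⟨x, (hmemV x hx).2 hW⟩, hP₀s _ hx, rfl⟩

variable (f Z)

/-- Over the henselization, the fibre of `Z` at the closed point is cut out by a proper clopen. -/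
theorem exists_clopen [IsSeparated f] [LocallyOfFinitePresentation f] [QuasiCompact f] (y : Y)
    (hy : FibProper f Z y) (hop : IsOpen (f.fiberι y ⁻¹' Z)) :
    ∃ P : (pullback f (Spread.henPoint y)).Opens, IsClosed (P : Set ↑(pullback f (Spread.henPoint y))) ∧
      IsProper (P.ι ≫ pullback.snd f (Spread.henPoint y)) ∧
      ∀ x, pullback.snd f (Spread.henPoint y) x = IsLocalRing.closedPoint _ →
        (x ∈ P ↔ pullback.fst f (Spread.henPoint y) x ∈ Z) := by
  have hs : Spread.henPoint y (IsLocalRing.closedPoint _) = y := Spread.henPoint_closedPoint y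
  exact exists_clopen_henselian (pullback.snd f (Spread.henPoint y)) _
    (FibProper.baseChange _ _ (hs.symm ▸ hy)) (isOpen_baseChange _ _ (hs.symm ▸ hop))

/-- A locally constructible set stable under specialization over the generizations of `y` is closed
over a neighbourhood of `y`. -/
theorem exists_opens_closure [QuasiCompact f] (hZ : IsLocallyConstructible Z) (y : Y)
    (h : ∀ x' x : X, x' ∈ Z → x' ⤳ x → f x ⤳ y → x ∈ Z) :
    ∃ U : Y.Opens, y ∈ U ∧ ∀ x ∈ closure Z, f x ∈ U → x ∈ Z := by
  let E : Set X := closure Z ∩ Zᶜ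
  have hZp : ProCons.IsProConstructible Z := LimTop.isProConstructible_of_isLocallyConstructible hZ
  have hE : ProCons.IsProConstructible E := by
    refine FDesc.ProConsImage.isProConstructible_of_isClosed_cons fun U hU => ?_
    have : IsAffine U.toScheme := hU
    exact @IsClosed.inter _ _ _ (constructibleTopology _)
      (LimTop.isClosed_cons_of_isClosed (isClosed_closure.preimage U.ι.continuous))
      (LimTop.isClosed_cons_preimage U.ι (LimTop.isProConstructible_of_isLocallyConstructible
        (LimTop.isLocallyConstructible_compl hZ)))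
  have hy : y ∉ closure (f '' E) := fun hy => by
    obtain ⟨e, ⟨x, ⟨hx, hxZ⟩, rfl⟩, he⟩ := FDesc.ProConsClosure.exists_specializes_of_mem_closure
      (FDesc.ProConsImage.isProConstructible_image f hE) hy
    obtain ⟨x', hx', hx'x⟩ := FDesc.ProConsClosure.exists_specializes_of_mem_closure hZp hx
    exact hxZ (h x' x hx' hx'x he)
  exact ⟨⟨(closure (f '' E))ᶜ, isClosed_closure.isOpen_compl⟩, hy, fun x hx hxU =>
    by_contra fun hn => hxU (subset_closure ⟨x, ⟨hx, hn⟩, rfl⟩)⟩

/-- The main criterion. -/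
theorem exists_nhd [IsSeparated f] [LocallyOfFinitePresentation f] [QuasiCompact f]
    (hZ : IsLocallyConstructible Z) (y : Y) (hy : FibProper f Z y)
    (hcl : ∀ y' : Y, y' ⤳ y → IsClosed (f.fiberι y' ⁻¹' Z))
    (hop : ∀ y' : Y, y' ⤳ y → IsOpen (f.fiberι y' ⁻¹' Z))
    (hmeet : ∀ y' : Y, y' ⤳ y → ∀ P : (pullback f (Spread.henPoint y')).Opens,
      IsClosed (P : Set ↑(pullback f (Spread.henPoint y'))) →
      (∀ x, pullback.snd f (Spread.henPoint y') x = IsLocalRing.closedPoint _ →
        (x ∈ P ↔ pullback.fst f (Spread.henPoint y') x ∈ Z)) →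
      ∀ x, pullback.fst f (Spread.henPoint y') x ∈ Z → x ∈ P) :
    ∃ U : Y.Opens, y ∈ U ∧ ∃ hC : IsClosed ((f ⁻¹ᵁ U).ι ⁻¹' Z),
      IsProper ((Scheme.IdealSheafData.vanishingIdeal
        (⟨(f ⁻¹ᵁ U).ι ⁻¹' Z, hC⟩ : TopologicalSpace.Closeds ↥(f ⁻¹ᵁ U))).subschemeι ≫ (f ∣_ U)) := by
  obtain ⟨P, hPc, hPp, hPs⟩ := exists_clopen f Z y hy (hop y specializes_rfl)
  have hPZ := hmeet y specializes_rfl P hPc hPs
  -- properness in the fibres over all generizations
  have hfib : ∀ y' : Y, y' ⤳ y → FibProper f Z y' := fun y' hy' => by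
    obtain ⟨a, rfl⟩ := exists_henPoint_eq hy'
    exact fibProper_of_subset _ a (hcl _ hy') P hPc hPp fun x _ hx => hPZ x hx
  -- stability under specialization
  have hspec : ∀ x' x : X, x' ∈ Z → x' ⤳ x → f x ⤳ y → x ∈ Z := by
    intro x' x hx' hxx hxy
    obtain ⟨P₁, hP₁c, -, hP₁s⟩ := exists_clopen f Z (f x) (hfib _ hxy) (hop _ hxy)
    obtain ⟨z, hz₁, hz₂⟩ := Scheme.Pullback.exists_preimage_pullback (f := f) (g := Spread.henPoint (f x))
      x (IsLocalRing.closedPoint _) (Spread.henPoint_closedPoint (f x)).symm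
    have : Flat (pullback.fst f (Spread.henPoint (f x))) :=
      MorphismProperty.pullback_fst (P := @Flat) _ _ (flat_henPoint _)
    obtain ⟨z', hz', hz'x⟩ := Flat.generalizingMap (pullback.fst f (Spread.henPoint (f x)))
      (show x' ⤳ pullback.fst f (Spread.henPoint (f x)) z from hz₁.symm ▸ hxx)
    have hz'P : z' ∈ P₁ := hmeet _ hxy P₁ hP₁c hP₁s z' (hz'x.symm ▸ hx')
    exact hz₁ ▸ (hP₁s z hz₂).1 (hz'.mem_closed hP₁c hz'P)
  obtain ⟨U₀, hyU₀, hU₀⟩ := exists_opens_closure f Z hZ y hspec
  -- the reduced subscheme on the closure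
  let I := Scheme.IdealSheafData.vanishingIdeal (⟨closure Z, isClosed_closure⟩ : Closeds X)
  let i := I.subschemeι
  have hri : Set.range i = closure Z := by
    show Set.range I.subschemeι = _
    rw [Scheme.IdealSheafData.range_subschemeι, Scheme.IdealSheafData.coe_support_vanishingIdeal]
    rfl
  let h := Spread.henPoint y
  have hA : IsProper (pullback.snd (i ≫ f) h) := by
    let j := pullback.lift (pullback.fst (i ≫ f) h ≫ i) (pullback.snd (i ≫ f) h)
      (by rw [Category.assoc, pullback.condition]) (f := f) (g := h)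
    have hj : IsPullback (pullback.fst (i ≫ f) h) j i (pullback.fst f h) :=
      IsPullback.of_bot (v₂₁ := pullback.snd f h) (v₂₂ := f)
        (by rw [pullback.lift_snd]; exact IsPullback.of_hasPullback (i ≫ f) h)
        (pullback.lift_fst _ _ _).symm (IsPullback.of_hasPullback f h)
    have : IsClosedImmersion j := MorphismProperty.of_isPullback (P := @IsClosedImmersion) hj inferInstance
    have : IsClosedImmersion P.ι :=
      IsClosedImmersion.of_isPreimmersion _ (by rw [Scheme.Opens.range_ι]; exact hPc)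
    have hjs : j ≫ pullback.snd f h = pullback.snd (i ≫ f) h := pullback.lift_snd _ _ _
    rw [← hjs]
    refine isProper_of_range_subset _ P.ι j ?_ hPp
    rw [Scheme.Opens.range_ι]
    rintro _ ⟨w, rfl⟩
    refine hPZ _ (hU₀ _ (hri.le ⟨pullback.fst (i ≫ f) h w, ?_⟩) ?_)
    · rw [← Scheme.Hom.comp_apply, ← Scheme.Hom.comp_apply, hj.w]
    · rw [← Scheme.Hom.comp_apply, pullback.condition, Scheme.Hom.comp_apply]
      exact (henPoint_specializes y _).mem_open U₀.isOpen hyU₀
  obtain ⟨U₁, hyU₁, hU₁⟩ := Spread.exists_nhd_of_henselization (i ≫ f) y hA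
  let U := U₁ ⊓ U₀
  have hC : (f ⁻¹ᵁ U).ι ⁻¹' Z = (f ⁻¹ᵁ U).ι ⁻¹' closure Z :=
    Set.Subset.antisymm (Set.preimage_mono subset_closure) fun z hz => hU₀ _ hz z.2.2
  refine ⟨U, ⟨hyU₁, hyU₀⟩, hC ▸ isClosed_closure.preimage (f ⁻¹ᵁ U).ι.continuous, ?_⟩
  have hU : IsProper ((i ≫ f) ∣_ U) := by
    have he : U₁.ι ''ᵁ (U₁.ι ⁻¹ᵁ U) = U := by
      refine TopologicalSpace.Opens.ext ?_
      simp only [Scheme.Hom.coe_image, Scheme.Hom.coe_preimage, Set.image_preimage_eq_inter_range,
        Scheme.Opens.range_ι]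
      exact Set.inter_eq_left.2 fun w hw => hw.1
    have := (MorphismProperty.arrow_mk_iso_iff @IsProper
      (morphismRestrictRestrict (i ≫ f) U₁ (U₁.ι ⁻¹ᵁ U))).1 (IsZariskiLocalAtTarget.restrict hU₁ _)
    rwa [he] at this
  rw [morphismRestrict_comp] at hU
  refine isProper_of_range_subset (f ∣_ U) (i ∣_ f ⁻¹ᵁ U) _ ?_ hU
  rw [Scheme.IdealSheafData.range_subschemeι, Scheme.IdealSheafData.coe_support_vanishingIdeal]
  intro z hz
  obtain ⟨w, hw⟩ := hri.ge (subset_closure (show (f ⁻¹ᵁ U).ι z ∈ Z from hz))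
  refine ⟨⟨w, ?_⟩, (f ⁻¹ᵁ U).ι.isOpenEmbedding.injective ?_⟩
  · show i w ∈ f ⁻¹ᵁ U
    rw [hw]
    exact z.2
  · exact (morphismRestrict_base_coe i _ _).trans hw

end Groth.Agent.ProperFib.SetProper
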