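import Groth.Agent.ProjMor.ChowQcqs
import Groth.Agent.ProjProper.Basic
import Groth.Agent.LimLib.FGSub
import Groth.Agent.LimLib.Props
import Mathlib.RingTheory.FiniteType
import Mathlib.AlgebraicGeometry.Noetherian

/-!
# Weak compactifications: a separated scheme of finite presentation over an affine base is the image
of a proper surjection from a scheme immersed in a proper scheme over the base (Chow's lemma and
absolute Noetherian approximation).
-/

set_option autoImplicit false
set_option backward.isDefEq.respectTransparency false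

universe u

open CategoryTheory Limits AlgebraicGeometry TopologicalSpace

namespace Groth.Agent.ProperFib.Compactify

variable {A : Type u} [CommRing A]

/-- A model over a Noetherian ring that is separated. -/
theorem exists_separated_model {X : Scheme.{u}} (f : X ⟶ Spec (CommRingCat.of A)) [IsSeparated f]
    [LocallyOfFinitePresentation f] [QuasiCompact f] :
    ∃ (S₀ X₀ : Scheme.{u}) (b : Spec (CommRingCat.of A) ⟶ S₀) (f₀ : X₀ ⟶ S₀) (g : X ⟶ X₀),
      IsNoetherian S₀ ∧ IsSeparated f₀ ∧ LocallyOfFiniteType f₀ ∧ QuasiCompact f₀ ∧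
        IsPullback g f f₀ b := by
  classical
  have : CompactSpace X := QuasiCompact.compactSpace_of_compactSpace f
  have : QuasiSeparatedSpace X := quasiSeparatedSpace_of_quasiSeparated f
  obtain ⟨i, X₁, f₁, g₁, h₁, h₂, h₃, h⟩ :=
    LimLib.hasModel (LimLib.isLimitFgCone ℤ A) (X := X) f
  obtain ⟨j, φ, hsep⟩ := LimLib.descends_isSeparated.{u} (LimLib.fgDiagram ℤ A) (LimLib.fgCone ℤ A)
    (LimLib.isLimitFgCone ℤ A) (fun _ _ a => inferInstance) (fun _ => inferInstance)
    (fun _ => inferInstance) i X₁ f₁ h₂ h₃ trivial X g₁ f h inferInstance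
  obtain ⟨h₁', h₂', h₃', hg'⟩ := LimLib.HasModel.at_finer (c := LimLib.fgCone ℤ A) (f := f) h₁ h₂ h₃ h φ
  have hnoeth : IsNoetherianRing (Algebra.adjoin ℤ (j.unop : Set A)) := by
    have : Algebra.FiniteType ℤ (Algebra.adjoin ℤ (j.unop : Set A)) :=
      (Subalgebra.fg_iff_finiteType _).1 ⟨j.unop, rfl⟩
    exact Algebra.FiniteType.isNoetherianRing ℤ _
  have : IsNoetherian ((LimLib.fgDiagram ℤ A).obj j) :=
    inferInstanceAs (IsNoetherian (Spec (CommRingCat.of (Algebra.adjoin ℤ (j.unop : Set A)))))
  exact ⟨_, _, (LimLib.fgCone ℤ A).π.app j, pullback.snd f₁ ((LimLib.fgDiagram ℤ A).map φ), _,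
    this, hsep, inferInstance, quasiCompact_of_compactSpace _, hg'⟩

/-- Weak compactification. -/
theorem exists_immersion_proper {X : Scheme.{u}} (f : X ⟶ Spec (CommRingCat.of A)) [IsSeparated f]
    [LocallyOfFinitePresentation f] [QuasiCompact f] :
    ∃ (X' P : Scheme.{u}) (π : X' ⟶ X) (j : X' ⟶ P) (p : P ⟶ Spec (CommRingCat.of A)),
      IsProper π ∧ Surjective π ∧ IsImmersion j ∧ IsProper p ∧ j ≫ p = π ≫ f := by
  obtain ⟨S₀, X₀, b, f₀, g, hS, hsep, hft, hqc, hpb⟩ := exists_separated_model f
  have : IsLocallyNoetherian X₀ := LocallyOfFiniteType.isLocallyNoetherian f₀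
  have : CompactSpace X₀ := QuasiCompact.compactSpace_of_compactSpace f₀
  have : IsNoetherian X₀ := {}
  obtain ⟨N, X₀', π₀, j₀, W, -, hπ, hsurj, hj, hjf, -⟩ :=
    ProjMor.chow_finite_components f₀ TopologicalSpace.NoetherianSpace.finite_irreducibleComponents
  have hp₀ := Groth.Agent.ProjProper.Basic.isProper_toBase N S₀
  -- base change
  have hX' : IsPullback (pullback.fst π₀ g) (pullback.snd π₀ g ≫ f) (π₀ ≫ f₀) b :=
    (IsPullback.of_hasPullback π₀ g).paste_vert hpb
  let j : pullback π₀ g ⟶ pullback (CohB1.ProjSpaceOver.toBase N S₀) b :=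
    pullback.lift (pullback.fst π₀ g ≫ j₀) (pullback.snd π₀ g ≫ f)
      (by rw [Category.assoc, hjf, hX'.w])
  have hjsq : IsPullback (pullback.fst π₀ g) j j₀ (pullback.fst (CohB1.ProjSpaceOver.toBase N S₀) b) := by
    refine IsPullback.of_bot ?_ (pullback.lift_fst _ _ _).symm (IsPullback.of_hasPullback _ b)
    rw [hjf, pullback.lift_snd]
    exact hX'
  exact ⟨_, _, pullback.snd π₀ g, j, pullback.snd _ b,
    MorphismProperty.pullback_snd (P := @IsProper) π₀ g hπ,
    MorphismProperty.pullback_snd (P := @Surjective) π₀ g hsurj,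
    MorphismProperty.of_isPullback (P := @IsImmersion) hjsq hj,
    MorphismProperty.pullback_snd (P := @IsProper) _ b hp₀,
    pullback.lift_snd _ _ _⟩

end Groth.Agent.ProperFib.Compactify
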