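import Groth.Agent.ProperFib.Spread
import Groth.Agent.Hens.FibreIdempotent
import Mathlib.AlgebraicGeometry.Geometrically.Connected
import Mathlib.AlgebraicGeometry.Morphisms.Flat

/-!
# Properness near a fibre from geometric connectedness of the generic fibres
-/

set_option autoImplicit false
set_option backward.isDefEq.respectTransparency.types false

universe u

open CategoryTheory Limits AlgebraicGeometry TopologicalSpace

namespace Groth.Agent.ProperFib.Generic

/-- Every point of a scheme has a maximal generization. -/
theorem exists_maximal_generization {X : Scheme.{u}} (x : X) :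
    ∃ x₀ : X, x₀ ⤳ x ∧ ∀ z : X, z ⤳ x₀ → z = x₀ := by
  have hirr : IsIrreducible (irreducibleComponent x) := isIrreducible_irreducibleComponent
  have hg := hirr.isGenericPoint_genericPoint isClosed_irreducibleComponent
  refine ⟨hirr.genericPoint, hg.specializes mem_irreducibleComponent, fun z hz => ?_⟩
  have h1 : irreducibleComponent x ⊆ closure {z} := by
    rw [← hg.def]
    exact (specializes_iff_closure_subset.1 hz)
  have h2 : closure ({z} : Set X) = irreducibleComponent x :=
    eq_irreducibleComponent isIrreducible_singleton.closure.2 h1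
  exact IsGenericPoint.eq h2 hg

/-- A flat morphism sends maximal points to maximal points. -/
theorem eq_of_specializes_of_flat {X Y : Scheme.{u}} (f : X ⟶ Y) [Flat f] {x : X}
    (hx : ∀ z : X, z ⤳ x → z = x) {w : Y} (hw : w ⤳ f x) : w = f x := by
  obtain ⟨z, hz, rfl⟩ := Flat.generalizingMap f hw
  rw [hx z hz]

/-- If the fibres over maximal points of the base are geometrically connected (when nonempty) and the
morphism is flat, properness of a nonempty fibre spreads out to a neighbourhood. -/
theorem exists_nhd_of_flat {X S : Scheme.{u}} (f : X ⟶ S) [Flat f] [IsSeparated f]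
    [LocallyOfFinitePresentation f] [QuasiCompact f]
    (hgen : ∀ η : S, (∀ η' : S, η' ⤳ η → η' = η) → Nonempty ↥(f.fiber η) →
      GeometricallyConnected (f.fiberToSpecResidueField η))
    (s : S) [Nonempty ↥(f.fiber s)] (hs : IsProper (f.fiberToSpecResidueField s)) :
    ∃ U : S.Opens, s ∈ U ∧ IsProper (f ∣_ U) := by
  refine Spread.exists_nhd_of_meet f s hs fun P hP hPs x => ?_
  let h := Spread.henPoint s
  have : Flat h := by
    have : Flat (Spec.map (CommRingCat.ofHom (algebraMap (S.presheaf.stalk s)
        (Groth.Agent.Hens.Henselization (S.presheaf.stalk s))))) :=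
      Flat.SpecMap_iff.2 (RingHom.flat_algebraMap_iff.2 inferInstance)
    exact MorphismProperty.comp_mem _ _ _ this (Groth.Agent.Hens.FibreIdempotent.flat_fromSpecStalk s)
  let p := pullback.snd f h
  have : Flat p := MorphismProperty.pullback_snd (P := @Flat) _ _ inferInstance
  obtain ⟨x₀, hx₀, hmax⟩ := exists_maximal_generization x
  let a := p x₀
  have hfa : f (pullback.fst f h x₀) = h a := by
    rw [← Scheme.Hom.comp_apply, pullback.condition, Scheme.Hom.comp_apply]
  have hη : ∀ η' : S, η' ⤳ h a → η' = h a := fun η' hη' =>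
    eq_of_specializes_of_flat h (fun z hz => eq_of_specializes_of_flat p hmax hz) hη'
  have hne : Nonempty ↥(f.fiber (h a)) := by
    obtain ⟨z, -⟩ := (f.range_fiberι (h a)).ge (show pullback.fst f h x₀ ∈ f ⁻¹' {h a} from hfa)
    exact ⟨z⟩
  have hGC := hgen (h a) hη hne
  have hGC' : GeometricallyConnected (p.fiberToSpecResidueField a) :=
    MorphismProperty.of_isPullback (P := @GeometricallyConnected)
      (isPullback_fiberToSpecResidueField_of_isPullback (IsPullback.of_hasPullback f h) a) hGC
  have : ConnectedSpace ↥(p.fiber a) :=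
    GeometricallyConnected.connectedSpace_of_subsingleton (p.fiberToSpecResidueField a)
  have hconn : _root_.IsPreconnected (p ⁻¹' {a}) := by
    rw [← p.range_fiberι, ← Set.image_univ]
    exact isPreconnected_univ.image _ (p.fiberι _).continuous.continuousOn
  obtain ⟨z⟩ := ‹Nonempty ↥(f.fiber s)›
  obtain ⟨x₁, -, hx₁⟩ := Scheme.Pullback.exists_preimage_pullback (f := f) (g := h)
    (f.fiberι s z) (IsLocalRing.closedPoint _) (by
      have := (f.range_fiberι s).le ⟨z, rfl⟩
      exact this.trans (Spread.henPoint_closedPoint s).symm)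
  obtain ⟨x₂, hx₂, hpx₂⟩ := Flat.generalizingMap p
    (show a ⤳ p x₁ from hx₁ ▸ IsLocalRing.specializes_closedPoint _)
  have hx₂P : x₂ ∈ P := hx₂.mem_open P.isOpen (hPs x₁ hx₁)
  have hx₀P : x₀ ∈ P := hconn.subset_isClopen ⟨hP, P.isOpen⟩ ⟨x₂, hpx₂, hx₂P⟩ rfl
  exact hx₀.mem_closed hP hx₀P

end Groth.Agent.ProperFib.Generic
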