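import Groth.Agent.ProperFib.Generic
import Groth.Agent.Hens.SteinConnected

/-!
# Proper flat morphisms with geometrically connected generic fibres
-/

set_option autoImplicit false
set_option backward.isDefEq.respectTransparency.types false

universe u

open CategoryTheory Limits AlgebraicGeometry IsLocalRing

namespace Groth.Agent.ProperFib.GeomConn

/-- Proper flat schemes over a henselian local ring with connected generic fibres are connected. -/
theorem connectedSpace_of_generic {H : Type u} [CommRing H] [IsLocalRing H] {X : Scheme.{u}}
    (q : X ⟶ Spec (CommRingCat.of H)) [Flat q] [LocallyOfFinitePresentation q] [IsProper q] [Nonempty X]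
    (hconn : ∀ x : X, (∀ z : X, z ⤳ x → z = x) → _root_.IsPreconnected (q ⁻¹' {q x})) :
    ConnectedSpace X := by
  have : PreconnectedSpace X := preconnectedSpace_iff_clopen.2 fun U hU => by
    rcases U.eq_empty_or_nonempty with h | hne
    · exact Or.inl h
    refine Or.inr (Set.eq_univ_of_forall fun x => ?_)
    have hopen : IsOpen (q '' U) := q.isOpenMap U hU.2
    have hclosed : IsClosed (q '' U) := q.isClosedMap U hU.1
    obtain ⟨x₀, hx₀, hmax⟩ := Groth.Agent.ProperFib.Generic.exists_maximal_generization x
    have hs : closedPoint H ∈ q '' U :=
      Groth.Agent.ProperFib.Henselian.mem_of_isClosed hclosed (hne.image q)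
    obtain ⟨w, hw, hqw⟩ := (specializes_closedPoint (q x₀)).mem_open hopen hs
    exact hx₀.mem_closed hU.1 ((hconn x₀ hmax).subset_isClopen hU ⟨w, hqw, hw⟩ rfl)
  exact { toNonempty := inferInstance }

/-- A surjective proper flat morphism whose fibres over maximal points are geometrically connected
has geometrically connected fibres. -/
theorem geometricallyConnected_of_generic {X S : Scheme.{u}} (f : X ⟶ S) [Flat f]
    [LocallyOfFinitePresentation f] [Surjective f] [IsProper f]
    (hgen : ∀ η : S, (∀ η' : S, η' ⤳ η → η' = η) → GeometricallyConnected (f.fiberToSpecResidueField η)) :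
    GeometricallyConnected f := by
  have hproper : IsProper f := inferInstance
  rw [GeometricallyConnected.iff_geometricallyConnected_fiber]
  intro t
  let A := S.presheaf.stalk t
  let H := Groth.Agent.Hens.StrictHenselization A
  have : IsSepClosed (ResidueField H) :=
    (Hensel.IsStrictHenselization.isSepClosure (R := A) (S := H)).sep_closed
  have : HenselianLocalRing H := Hensel.IsStrictHenselization.henselian (R := A)
  let b : Spec (CommRingCat.of H) ⟶ S :=
    Spec.map (CommRingCat.ofHom (algebraMap A H)) ≫ S.fromSpecStalk t
  have : Flat b := by
    have : Flat (Spec.map (CommRingCat.ofHom (algebraMap A H))) :=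
      HasRingHomProperty.Spec_iff.2 (RingHom.flat_algebraMap_iff.2 inferInstance)
    exact MorphismProperty.comp_mem _ _ _ this (Groth.Agent.Hens.FibreIdempotent.flat_fromSpecStalk t)
  let q := pullback.snd f b
  have : IsProper q := MorphismProperty.pullback_snd (P := @IsProper) _ _ hproper
  have : Flat q := MorphismProperty.pullback_snd (P := @Flat) _ _ inferInstance
  have : Surjective q := MorphismProperty.pullback_snd (P := @Surjective) _ _ inferInstance
  have : Nonempty ↥(pullback f b) := ⟨(q.surjective (closedPoint H)).choose⟩
  have hX : ConnectedSpace ↥(pullback f b) := connectedSpace_of_generic q fun x hmax => by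
    have hη : ∀ η' : S, η' ⤳ b (q x) → η' = b (q x) := fun η' hη' =>
      Groth.Agent.ProperFib.Generic.eq_of_specializes_of_flat b
        (fun z hz => Groth.Agent.ProperFib.Generic.eq_of_specializes_of_flat q hmax hz) hη'
    have : GeometricallyConnected (q.fiberToSpecResidueField (q x)) :=
      MorphismProperty.of_isPullback (P := @GeometricallyConnected)
        (isPullback_fiberToSpecResidueField_of_isPullback (IsPullback.of_hasPullback f b) (q x))
        (hgen _ hη)
    have : ConnectedSpace ↥(q.fiber (q x)) :=
      GeometricallyConnected.connectedSpace_of_subsingleton (q.fiberToSpecResidueField (q x))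
    rw [← q.range_fiberι, ← Set.image_univ]
    exact isPreconnected_univ.image _ (q.fiberι _).continuous.continuousOn
  let i := Spec.map (CommRingCat.ofHom (Ideal.Quotient.mk (maximalIdeal H)))
  have : IsClosedImmersion i := IsClosedImmersion.spec_of_surjective _ Ideal.Quotient.mk_surjective
  have h0 : ConnectedSpace ↥(pullback q i) := by
    refine (Groth.Agent.Hens.ProperClopenGen.connectedSpace_iff
      (pullback.fst q i).continuous fun V hV =>
      Groth.Agent.Hens.ProperClopenLift.existsUnique_preimage
        (pullback.fst q i).isClosedEmbedding
        (Groth.Agent.Hens.ProperClopenLift.range_fst_mk (maximalIdeal H) q)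
        (fun W hW hW' => Groth.Agent.Hens.ProperClopenGen.existsUnique_clopen (maximalIdeal H) q hW hW') hV).1 hX
  have hcomp : Groth.Agent.FBase.BC.specMap (ResidueField A) (ResidueField H) ≫ S.fromSpecResidueField t = i ≫ b := by
    show Spec.map _ ≫ Spec.map (S.residue t) ≫ S.fromSpecStalk t =
      Spec.map _ ≫ Spec.map _ ≫ S.fromSpecStalk t
    rw [← Category.assoc, ← Category.assoc, ← Spec.map_comp, ← Spec.map_comp]
    congr 2
  exact Groth.Agent.Hens.SteinConnected.geometricallyConnected_snd_of_factor (k := ResidueField A) (κ := ResidueField H) f
    (S.fromSpecResidueField t) b i hcomp (h0 := h0)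


end Groth.Agent.ProperFib.GeomConn
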