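import Groth.Agent.ProperFib.Compactify
import Groth.Agent.Hens.ProperClopenGen
import Mathlib.RingTheory.Henselian
import Mathlib.AlgebraicGeometry.Morphisms.Proper

/-!
# A separated scheme over a henselian local ring with proper closed fibre

Such a scheme is the disjoint sum of an open-closed part which is proper over the base and contains
the closed fibre, and a part with empty closed fibre.
-/

set_option autoImplicit false
set_option backward.isDefEq.respectTransparency.types false

universe u

open CategoryTheory Limits AlgebraicGeometry TopologicalSpace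

namespace Groth.Agent.ProperFib.Henselian

variable {A : Type u} [CommRing A]

theorem mem_of_isClosed [IsLocalRing A] {C : Set (PrimeSpectrum A)} (hC : IsClosed C)
    (hne : C.Nonempty) : IsLocalRing.closedPoint A ∈ C := by
  obtain ⟨z, hz⟩ := hne
  exact (IsLocalRing.specializes_closedPoint z).mem_closed hC hz

/-- A closed set with empty closed fibre in a proper scheme over a local ring is empty. -/
theorem eq_empty_of_disjoint_fibre [IsLocalRing A] {X : Scheme.{u}} (f : X ⟶ Spec (CommRingCat.of A))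
    [UniversallyClosed f] {C : Set X} (hC : IsClosed C)
    (h : ∀ x ∈ C, f x ≠ IsLocalRing.closedPoint A) : C = ∅ := by
  by_contra hne
  obtain ⟨x, hx, hfx⟩ := mem_of_isClosed (f.isClosedMap C hC)
    ((Set.nonempty_iff_ne_empty.2 hne).image f)
  exact h x hx hfx

variable {X : Scheme.{u}} (f : X ⟶ Spec (CommRingCat.of A))

/-- The decomposition: `P` is clopen, contains the closed fibre and is proper over the base. -/
theorem exists_isClopen_isProper [HenselianLocalRing A] [IsSeparated f]
    [LocallyOfFinitePresentation f] [QuasiCompact f]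
    (hs : IsProper (f.fiberToSpecResidueField (IsLocalRing.closedPoint A))) :
    ∃ P : X.Opens, IsClosed (P : Set X) ∧
      (∀ x : X, f x = IsLocalRing.closedPoint A → x ∈ P) ∧ IsProper (P.ι ≫ f) := by
  set s : ↥(Spec (CommRingCat.of A)) := IsLocalRing.closedPoint A
  obtain ⟨X', Pb, π, j, p, hπ, hsurj, hj, hp, hjp⟩ := Compactify.exists_immersion_proper f
  -- the fibre of `X'` has closed image in `Pb`
  let Z : Set X' := (π ≫ f) ⁻¹' {s}
  have hscl : IsClosed ({s} : Set ↥(Spec (CommRingCat.of A))) :=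
    IsLocalRing.isClosed_singleton_closedPoint A
  have hZimg : IsClosed (j '' Z) := by
    have : IsClosedImmersion ((Spec (CommRingCat.of A)).fromSpecResidueField s) :=
      isClosed_singleton_iff_isClosedImmersion.1 hscl
    let a := pullback.fst π (f.fiberι s)
    let c := pullback.snd π (f.fiberι s)
    have : IsProper c := MorphismProperty.pullback_snd (P := @IsProper) _ _ hπ
    have : IsProper (f.fiberι s ≫ f) := by
      rw [f.fiber_fac]
      have := hs
      infer_instance
    have hcomp : (a ≫ j) ≫ p = c ≫ f.fiberι s ≫ f := by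
      rw [Category.assoc, hjp, pullback.condition_assoc]
    have : IsProper ((a ≫ j) ≫ p) := by rw [hcomp]; infer_instance
    have : IsProper (a ≫ j) := IsProper.of_comp (a ≫ j) p
    have hr : Set.range a = Z := by
      rw [Scheme.Pullback.range_fst, f.range_fiberι]
      rfl
    rw [← hr, ← Set.range_comp]
    exact (a ≫ j).isClosedMap.isClosed_range
  -- the closure of `X'`
  let K : Closeds Pb := ⟨closure (Set.range j), isClosed_closure⟩
  let I := Scheme.IdealSheafData.vanishingIdeal K
  let i := I.subschemeι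
  have hri : Set.range i = closure (Set.range j) := by
    show Set.range I.subschemeι = _
    rw [Scheme.IdealSheafData.range_subschemeι, Scheme.IdealSheafData.coe_support_vanishingIdeal]
    rfl
  have : IsProper (i ≫ p) := inferInstance
  have hopen : IsOpen (i ⁻¹' Set.range j) := by
    have h1 : IsOpen ((coborder (Set.range j))) := j.isLocallyClosed_range.isOpen_coborder
    have h2 : i ⁻¹' Set.range j = i ⁻¹' coborder (Set.range j) := by
      ext c
      constructor
      · exact fun h => subset_coborder h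
      · intro h
        have hc : i c ∈ closure (Set.range j) := hri.le ⟨c, rfl⟩
        exact (closure_inter_coborder (s := Set.range j)).le ⟨hc, h⟩
    rw [h2]
    exact h1.preimage i.continuous
  have hzero : (i ≫ p) ⁻¹' PrimeSpectrum.zeroLocus (IsLocalRing.maximalIdeal A : Set A) = (i ≫ p) ⁻¹' {s} := by
    congr 1
    ext z
    rw [PrimeSpectrum.mem_zeroLocus]
    show _ ↔ z = s
    refine ⟨fun h => PrimeSpectrum.ext ?_, fun h => h ▸ (le_refl (IsLocalRing.maximalIdeal A))⟩
    exact ((IsLocalRing.maximalIdeal.isMaximal A).eq_of_le z.2.ne_top h).symm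
  let V : Set I.subscheme := (i ⁻¹' Set.range j) ∩ (i ≫ p) ⁻¹' {s}
  have hVimg : V = i ⁻¹' (j '' Z) := by
    ext c
    constructor
    · rintro ⟨⟨w, hw⟩, hc⟩
      refine ⟨w, ?_, hw⟩
      show (π ≫ f) w = s
      rw [← hjp, Scheme.Hom.comp_apply, hw]
      exact hc
    · rintro ⟨w, hw, hwc⟩
      refine ⟨⟨w, hwc⟩, ?_⟩
      show p (i c) = s
      rw [← hwc, ← Scheme.Hom.comp_apply, hjp]
      exact hw
  obtain ⟨U, ⟨hU, hUV⟩, -⟩ := Groth.Agent.Hens.ProperClopenGen.existsUnique_clopen
    (IsLocalRing.maximalIdeal A) (i ≫ p) (V := V) (by rw [hzero]; exact Set.inter_subset_right)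
    ⟨(hVimg ▸ hZimg.preimage i.continuous).preimage continuous_subtype_val, by
      rw [isOpen_induced_iff]
      exact ⟨_, hopen, by ext c; exact ⟨fun h => ⟨h, hzero.le c.2⟩, fun h => h.1⟩⟩⟩
  rw [hzero] at hUV
  have hUj : ∀ c ∈ U, i c ∈ Set.range j := by
    have he := eq_empty_of_disjoint_fibre (i ≫ p) (C := U ∩ (i ⁻¹' Set.range j)ᶜ)
      (hU.1.inter hopen.isClosed_compl) (fun c hc hcs => hc.2 (hUV.le ⟨hc.1, hcs⟩).1)
    intro c hc
    by_contra hn
    exact Set.notMem_empty c (he.le ⟨hc, hn⟩)
  -- the corresponding part of `X'`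
  let U' : Set X' := j ⁻¹' (i '' U)
  have hU'cl : IsClosed U' := (i.isClosedEmbedding.isClosedMap _ hU.1).preimage j.continuous
  have hU'op : IsOpen U' := by
    obtain ⟨O, hO, hOU⟩ := i.isClosedEmbedding.isInducing.isOpen_iff.1 hU.2
    have : U' = j ⁻¹' O := by
      ext w
      constructor
      · rintro ⟨c, hc, hcw⟩
        show j w ∈ O
        rw [← hcw]
        exact hOU.ge hc
      · intro hw
        obtain ⟨c, hc⟩ : j w ∈ Set.range i := hri.ge (subset_closure ⟨w, rfl⟩)
        exact ⟨c, hOU.le (show i c ∈ O from hc ▸ hw), hc⟩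
    rw [this]
    exact hO.preimage j.continuous
  let U'o : X'.Opens := ⟨U', hU'op⟩
  have hZU : Z ⊆ U' := by
    intro w hw
    obtain ⟨c, hc⟩ : j w ∈ Set.range i := hri.ge (subset_closure ⟨w, rfl⟩)
    refine ⟨c, (hUV.ge ?_).1, hc⟩
    rw [hVimg]
    exact ⟨w, hw, hc.symm⟩
  have : IsProper (U'o.ι ≫ π ≫ f) := by
    have hrange : Set.range (U'o.ι ≫ j) = i '' U := by
      rw [Scheme.Hom.comp_base, TopCat.coe_comp, Set.range_comp, Scheme.Opens.range_ι]
      refine Set.Subset.antisymm (Set.image_preimage_subset j (i '' U)) ?_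
      rintro _ ⟨c, hc, rfl⟩
      obtain ⟨w, hw⟩ := hUj c hc
      exact ⟨w, ⟨c, hc, hw.symm⟩, hw⟩
    have : IsClosedImmersion (U'o.ι ≫ j) :=
      IsClosedImmersion.of_isPreimmersion _ (hrange ▸ i.isClosedEmbedding.isClosedMap _ hU.1)
    rw [← hjp, ← Category.assoc]
    infer_instance
  -- push to `X`
  let P : Set X := π '' U'
  let Q : Set X := π '' U'ᶜ
  have hPcl : IsClosed P := π.isClosedMap _ hU'cl
  have hQcl : IsClosed Q := π.isClosedMap _ hU'op.isClosed_compl
  have hQs : ∀ x ∈ Q, f x ≠ s := by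
    rintro _ ⟨w, hw, rfl⟩ hfs
    exact hw (hZU (show (π ≫ f) w = s from hfs))
  have hPQ : Disjoint P Q := by
    have hC : IsClosed ((U'o.ι ≫ π) ⁻¹' Q) := hQcl.preimage (U'o.ι ≫ π).continuous
    have he := eq_empty_of_disjoint_fibre (U'o.ι ≫ π ≫ f) hC fun w hw hws => hQs _ hw (by
      rw [← Scheme.Hom.comp_apply, Category.assoc]; exact hws)
    rw [Set.disjoint_left]
    rintro x ⟨w, hw, rfl⟩ hxQ
    exact Set.notMem_empty (⟨w, hw⟩ : U'o) (he.le hxQ)
  have hunion : ∀ x, x ∉ P → x ∈ Q := by
    intro x hx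
    obtain ⟨w, rfl⟩ := π.surjective x
    exact ⟨w, fun hw => hx ⟨w, hw, rfl⟩, rfl⟩
  have hPop : IsOpen P := by
    have : P = Qᶜ := Set.Subset.antisymm (fun x hx => Set.disjoint_left.1 hPQ hx)
      fun x hx => by_contra fun hn => hx (hunion x hn)
    rw [this]
    exact hQcl.isOpen_compl
  let Po : X.Opens := ⟨P, hPop⟩
  refine ⟨Po, hPcl, fun x hx => by_contra fun hn => hQs x (hunion x hn) hx, ?_⟩
  let q : (U'o : Scheme.{u}) ⟶ Po := IsOpenImmersion.lift Po.ι (U'o.ι ≫ π) (by
    rintro _ ⟨w, rfl⟩
    rw [Scheme.Opens.range_ι]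
    exact ⟨_, w.2, (Scheme.Hom.comp_apply (U'o.ι) π w).symm⟩)
  have hq : q ≫ Po.ι = U'o.ι ≫ π := IsOpenImmersion.lift_fac _ _ _
  have : IsClosedImmersion Po.ι :=
    IsClosedImmersion.of_isPreimmersion _ (by rw [Scheme.Opens.range_ι]; exact hPcl)
  have : Surjective q := by
    refine ⟨fun z => ?_⟩
    obtain ⟨w, hw, hwz⟩ := z.2
    refine ⟨⟨w, hw⟩, Po.ι.isOpenEmbedding.injective ?_⟩
    rw [← Scheme.Hom.comp_apply, hq, Scheme.Hom.comp_apply]
    exact hwz
  have : UniversallyClosed (q ≫ Po.ι ≫ f) := by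
    rw [reassoc_of% hq]
    infer_instance
  have := UniversallyClosed.of_comp_surjective q (Po.ι ≫ f)
  exact { }

/-- If every fibre meets every clopen set containing the closed fibre and has no nontrivial clopen
splitting, then the morphism is proper. -/
theorem isProper_of_forall [HenselianLocalRing A] [IsSeparated f]
    [LocallyOfFinitePresentation f] [QuasiCompact f]
    (hs : IsProper (f.fiberToSpecResidueField (IsLocalRing.closedPoint A)))
    (hmeet : ∀ P : X.Opens, IsClosed (P : Set X) →
      (∀ x : X, f x = IsLocalRing.closedPoint A → x ∈ P) → ∀ x : X, x ∈ P) : IsProper f := by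
  obtain ⟨P, hPcl, hPs, hP⟩ := exists_isClopen_isProper f hs
  have htop : P = ⊤ := top_le_iff.1 fun x _ => hmeet P hPcl hPs x
  have : Surjective P.ι := ⟨fun x => ⟨⟨x, htop ▸ trivial⟩, rfl⟩⟩
  have : UniversallyClosed (P.ι ≫ f) := inferInstance
  have := UniversallyClosed.of_comp_surjective P.ι f
  exact { }

end Groth.Agent.ProperFib.Henselian
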