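import Groth.Agent.ProperFib.SetProper
import Groth.Agent.SecComp.Constructible
import Groth.Agent.SchPoints.Basic

/-!
# The components of the fibres through a section
-/

set_option autoImplicit false
set_option backward.isDefEq.respectTransparency.types false

universe u

open CategoryTheory Limits AlgebraicGeometry

namespace Groth.Agent.ProperFib.Section

/-- The section component in a fibre, as a connected component of the scheme theoretic fibre. -/
theorem exists_fiberι_preimage {X Y : Scheme.{u}} (f : X ⟶ Y) (g : Y ⟶ X) (hg : g ≫ f = 𝟙 Y) (y : Y) :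
    ∃ w : f.fiber y, f.fiberι y ⁻¹' MoreMor.sectionComponents f g = connectedComponent w ∧
      f.fiberι y ⁻¹' connectedComponentIn (f ⁻¹' {y}) (g y) = connectedComponent w := by
  obtain ⟨w, hw⟩ : g y ∈ Set.range (f.fiberι y) := by
    rw [f.range_fiberι]
    show f (g y) = y
    rw [← Scheme.Hom.comp_apply, hg]
    rfl
  have h2 : f.fiberι y ⁻¹' connectedComponentIn (f ⁻¹' {y}) (g y) = connectedComponent w := by
    rw [← hw, Groth.Agent.SecComp.connectedComponentIn_fibre,
      Set.preimage_image_eq _ (f.fiberι y).isEmbedding.injective]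
  refine ⟨w, ?_, h2⟩
  rw [← h2]
  ext z
  have hz : f (f.fiberι y z) = y := (f.range_fiberι y).le ⟨z, rfl⟩
  show f.fiberι y z ∈ connectedComponentIn (f ⁻¹' {f (f.fiberι y z)}) (g (f (f.fiberι y z))) ↔ _
  rw [hz]
  rfl

variable {X Y : Scheme.{u}} (f : X ⟶ Y) (g : Y ⟶ X)

theorem isClosed_fibre (hg : g ≫ f = 𝟙 Y) (y : Y) :
    IsClosed (f.fiberι y ⁻¹' MoreMor.sectionComponents f g) := by
  obtain ⟨w, hw, -⟩ := exists_fiberι_preimage f g hg y
  exact hw ▸ isClosed_connectedComponent

theorem isOpen_fibre [LocallyOfFiniteType f] (hg : g ≫ f = 𝟙 Y) (y : Y) :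
    IsOpen (f.fiberι y ⁻¹' MoreMor.sectionComponents f g) := by
  obtain ⟨w, hw, -⟩ := exists_fiberι_preimage f g hg y
  have : LocallyOfFiniteType (f.fiberToSpecResidueField y) :=
    MorphismProperty.pullback_snd (P := @LocallyOfFiniteType) _ _ inferInstance
  have : IsLocallyNoetherian (f.fiber y) :=
    LocallyOfFiniteType.isLocallyNoetherian (f.fiberToSpecResidueField y)
  have : LocallyConnectedSpace ↥(f.fiber y) :=
    Groth.Agent.SchPoints.locallyConnectedSpace Groth.Agent.SchPoints.exists_noetherian_nhd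
  exact hw ▸ isOpen_connectedComponent

theorem fibProper [IsSeparated f] (hg : g ≫ f = 𝟙 Y) (y : Y)
    (hop : IsOpen (f.fiberι y ⁻¹' connectedComponentIn (f ⁻¹' {y}) (g y)))
    (hprop : IsProper (Scheme.Opens.ι (⟨f.fiberι y ⁻¹' connectedComponentIn (f ⁻¹' {y}) (g y), hop⟩ : (f.fiber y).Opens) ≫
      f.fiberToSpecResidueField y)) :
    SetProper.FibProper f (MoreMor.sectionComponents f g) y := by
  let Z := MoreMor.sectionComponents f g
  have heq : f.fiberι y ⁻¹' Z = f.fiberι y ⁻¹' connectedComponentIn (f ⁻¹' {y}) (g y) := by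
    obtain ⟨w, hw, hw'⟩ := exists_fiberι_preimage f g hg y
    exact hw.trans hw'.symm
  obtain ⟨T, i, hi, hr, hp⟩ := SetProper.fibProper_of_isOpen f
    (connectedComponentIn (f ⁻¹' {y}) (g y)) y hop hprop
  exact ⟨T, i, hi, hr.trans heq.symm, hp⟩

theorem meet (hg : g ≫ f = 𝟙 Y) (y' : Y) (P : (pullback f (Spread.henPoint y')).Opens)
    (hPc : IsClosed (P : Set ↑(pullback f (Spread.henPoint y'))))
    (hPs : ∀ x, pullback.snd f (Spread.henPoint y') x = IsLocalRing.closedPoint _ →
      (x ∈ P ↔ pullback.fst f (Spread.henPoint y') x ∈ MoreMor.sectionComponents f g))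
    (x : ↑(pullback f (Spread.henPoint y')))
    (hx : pullback.fst f (Spread.henPoint y') x ∈ MoreMor.sectionComponents f g) : x ∈ P := by
  let h := Spread.henPoint y'
  let q := pullback.snd f h
  let σ := pullback.lift (h ≫ g) (𝟙 _) (by rw [Category.assoc, hg, Category.comp_id, Category.id_comp])
    (f := f) (g := h)
  have hσ : σ ≫ q = 𝟙 _ := pullback.lift_snd _ _ _
  have hσ' : σ ≫ pullback.fst f h = h ≫ g := pullback.lift_fst _ _ _
  have he := Groth.Agent.SecComp.preimage_sectionComponents f g hg q (pullback.fst f h) h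
    (IsPullback.of_hasPullback f h) σ hσ hσ'
  have hq : ∀ a, q (σ a) = a := fun a => by rw [← Scheme.Hom.comp_apply, hσ]; rfl
  have hσZ : ∀ a, σ a ∈ MoreMor.sectionComponents q σ := fun a => by
    show σ a ∈ connectedComponentIn (q ⁻¹' {q (σ a)}) (σ (q (σ a)))
    rw [hq]
    exact mem_connectedComponentIn (hq a)
  have hopenσ : IsOpen (σ ⁻¹' (P : Set ↑(pullback f h))) := P.isOpen.preimage σ.continuous
  have hs : IsLocalRing.closedPoint _ ∈ σ ⁻¹' (P : Set ↑(pullback f h)) :=
    (hPs (σ (IsLocalRing.closedPoint _)) (hq _)).2 (he.le (hσZ _))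
  have hall : σ (q x) ∈ P := (IsLocalRing.specializes_closedPoint (q x)).mem_open hopenσ hs
  exact isPreconnected_connectedComponentIn.subset_isClopen ⟨hPc, P.isOpen⟩
    ⟨σ (q x), mem_connectedComponentIn (hq _), hall⟩ (he.ge hx)

theorem fibre_inter (y : Y) :
    f ⁻¹' {y} ∩ MoreMor.sectionComponents f g = connectedComponentIn (f ⁻¹' {y}) (g y) := by
  ext x
  constructor
  · rintro ⟨hx, hxZ⟩
    have hxZ' : x ∈ connectedComponentIn (f ⁻¹' {f x}) (g (f x)) := hxZ
    rwa [show f x = y from hx] at hxZ'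
  · intro hx
    have hfx : f x = y := connectedComponentIn_subset (f ⁻¹' {y}) (g y) hx
    refine ⟨hfx, ?_⟩
    show x ∈ connectedComponentIn (f ⁻¹' {f x}) (g (f x))
    rwa [hfx]

end Groth.Agent.ProperFib.Section
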