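import Groth.Agent.ProperFib.Henselian
import Groth.Agent.Hens.Local
import Groth.Agent.FpqcDesc.Props
import Groth.Agent.LimLib.Proper
import Groth.Agent.LimLib.StalkSystem

/-!
# Spreading out properness from a fibre

If the closed fibre of the base change of a separated morphism of finite presentation to the
henselization of a local ring is proper and the complementary part is empty, the morphism is proper
over a neighbourhood of the point.
-/

set_option autoImplicit false
set_option backward.isDefEq.respectTransparency.types false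

universe u

open CategoryTheory Limits AlgebraicGeometry TopologicalSpace Opposite

namespace Groth.Agent.ProperFib.Spread

variable {X Y : Scheme.{u}} (f : X ⟶ Y)

/-- Properness over the spectrum of the local ring spreads out to a neighbourhood. -/
theorem exists_nhd_of_stalk [LocallyOfFiniteType f] [QuasiCompact f] [QuasiSeparated f] (y : Y)
    (h : IsProper (pullback.snd f (Y.fromSpecStalk y))) :
    ∃ U : Y.Opens, y ∈ U ∧ IsProper (f ∣_ U) := by
  obtain ⟨T⟩ := LimLib.nonempty_stalkSystem Y y
  obtain ⟨hc⟩ := T.isLimit
  let i : T.Jᵒᵖ := op (Classical.arbitrary T.J)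
  let f₀ := pullback.snd f (T.ι.app i)
  have : CompactSpace (T.D.obj i) := inferInstance
  have : QuasiSeparatedSpace (T.D.obj i) := inferInstance
  have hX₀ : CompactSpace ↑(pullback f (T.ι.app i)) := QuasiCompact.compactSpace_of_compactSpace f₀
  have hX₀' : QuasiSeparatedSpace ↑(pullback f (T.ι.app i)) := quasiSeparatedSpace_of_quasiSeparated f₀
  have hX : IsPullback
      (pullback.lift (pullback.fst f (Y.fromSpecStalk y)) (pullback.snd f (Y.fromSpecStalk y) ≫ T.π.app i)
        (by rw [Category.assoc, T.fac i, pullback.condition]))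
      (pullback.snd f (Y.fromSpecStalk y)) f₀ (T.π.app i) :=
    IsPullback.of_right (by rw [pullback.lift_fst, T.fac i]; exact IsPullback.of_hasPullback _ _)
      (pullback.lift_snd _ _ _) (IsPullback.of_hasPullback _ _)
  obtain ⟨j, φ, hj⟩ := LimLib.descends_isProper.{u} T.D (Cone.mk _ T.π) hc
    (fun _ _ a => isAffineHom_of_isAffine _) (fun _ => inferInstance) (fun _ => inferInstance)
    i _ f₀ hX₀ hX₀' inferInstance _ _ _ hX h
  have hij : T.D.map φ ≫ T.ι.app i = T.ι.app j := by
    have := T.ι.naturality φ
    simpa using this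
  have hsq : IsPullback (pullback.fst f₀ (T.D.map φ) ≫ pullback.fst f (T.ι.app i))
      (pullback.snd f₀ (T.D.map φ)) f (T.ι.app j) := by
    rw [← hij]
    exact (IsPullback.of_hasPullback f₀ (T.D.map φ)).paste_horiz (IsPullback.of_hasPullback f (T.ι.app i))
  refine ⟨(T.ι.app j).opensRange, T.mem j, ?_⟩
  let U := (T.ι.app j).opensRange
  let e : T.D.obj j ⟶ (U : Scheme.{u}) := IsOpenImmersion.lift U.ι (T.ι.app j)
    (by rw [Scheme.Opens.range_ι]; rfl)
  have he : e ≫ U.ι = T.ι.app j := IsOpenImmersion.lift_fac _ _ _
  have : IsOpenImmersion e := by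
    have : IsOpenImmersion (e ≫ U.ι) := by rw [he]; infer_instance
    exact IsOpenImmersion.of_comp e U.ι
  have hes : Surjective e := ⟨fun z => by
    obtain ⟨w, hw⟩ := z.2
    exact ⟨w, U.ι.isOpenEmbedding.injective (by rw [← Scheme.Hom.comp_apply, he]; exact hw)⟩⟩
  have : IsAffine (U : Scheme.{u}) := isAffineOpen_opensRange (T.ι.app j)
  have hsq2 : IsPullback
      (((isPullback_morphismRestrict f U).flip).lift (pullback.fst f₀ (T.D.map φ) ≫ pullback.fst f (T.ι.app i))
        (pullback.snd f₀ (T.D.map φ) ≫ e) (by rw [hsq.w, Category.assoc, he]))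
      (pullback.snd f₀ (T.D.map φ)) (f ∣_ U) e :=
    IsPullback.of_right (by rw [IsPullback.lift_fst, he]; exact hsq) (IsPullback.lift_snd _ _ _ _)
      (isPullback_morphismRestrict f U).flip
  have := FpqcDesc.descendsAlong_isProper.{u}
  exact MorphismProperty.of_isPullback_of_descendsAlong (P := @IsProper)
    (Q := (@Surjective ⊓ @Flat ⊓ @QuasiCompact : MorphismProperty Scheme.{u})) hsq2.flip
    ⟨⟨hes, inferInstance⟩, quasiCompact_of_compactSpace e⟩ hj

/-- The henselization of the local ring at a point, mapping to the scheme. -/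
noncomputable def henPoint (y : Y) :
    Spec (CommRingCat.of (Groth.Agent.Hens.Henselization (Y.presheaf.stalk y))) ⟶ Y :=
  Spec.map (CommRingCat.ofHom (algebraMap (Y.presheaf.stalk y)
    (Groth.Agent.Hens.Henselization (Y.presheaf.stalk y)))) ≫ Y.fromSpecStalk y

theorem henPoint_closedPoint (y : Y) :
    henPoint y (IsLocalRing.closedPoint (Groth.Agent.Hens.Henselization (Y.presheaf.stalk y))) = y := by
  have h : PrimeSpectrum.comap (algebraMap (Y.presheaf.stalk y)
      (Groth.Agent.Hens.Henselization (Y.presheaf.stalk y)))
      (IsLocalRing.closedPoint _) = IsLocalRing.closedPoint _ := IsLocalRing.comap_closedPoint _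
  rw [henPoint, Scheme.Hom.comp_apply]
  exact (congrArg (fun w => Y.fromSpecStalk y w) h).trans Scheme.fromSpecStalk_closedPoint

theorem isProper_fibre_henPoint [LocallyOfFiniteType f] (y : Y) (hy : IsProper (f.fiberToSpecResidueField y)) :
    IsProper ((pullback.snd f (henPoint y)).fiberToSpecResidueField
      (IsLocalRing.closedPoint (Groth.Agent.Hens.Henselization (Y.presheaf.stalk y)))) := by
  refine MorphismProperty.of_isPullback
    (isPullback_fiberToSpecResidueField_of_isPullback (IsPullback.of_hasPullback f (henPoint y)) _) ?_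
  rw [henPoint_closedPoint]
  exact hy

/-- Properness over the henselization of the local ring spreads out to a neighbourhood. -/
theorem exists_nhd_of_henselization [LocallyOfFiniteType f] [QuasiCompact f] [QuasiSeparated f] (y : Y)
    (h : IsProper (pullback.snd f (henPoint y))) :
    ∃ U : Y.Opens, y ∈ U ∧ IsProper (f ∣_ U) := by
  refine exists_nhd_of_stalk f y ?_
  let φ := Spec.map (CommRingCat.ofHom (algebraMap (Y.presheaf.stalk y)
    (Groth.Agent.Hens.Henselization (Y.presheaf.stalk y))))
  have hφ : Surjective φ ∧ Flat φ := by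
    refine ⟨⟨?_⟩, ?_⟩
    · exact PrimeSpectrum.comap_surjective_of_faithfullyFlat
        (A := Y.presheaf.stalk y) (B := Groth.Agent.Hens.Henselization (Y.presheaf.stalk y))
    · exact Flat.SpecMap_iff.2 (RingHom.flat_algebraMap_iff.2 inferInstance)
  have hsq : IsPullback
      (pullback.lift (pullback.fst f (henPoint y)) (pullback.snd f (henPoint y) ≫ φ)
        (by rw [Category.assoc]; exact pullback.condition))
      (pullback.snd f (henPoint y)) (pullback.snd f (Y.fromSpecStalk y)) φ :=
    IsPullback.of_right (by rw [pullback.lift_fst]; exact IsPullback.of_hasPullback f (henPoint y))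
      (pullback.lift_snd _ _ _) (IsPullback.of_hasPullback _ _)
  have := FpqcDesc.descendsAlong_isProper.{u}
  exact MorphismProperty.of_isPullback_of_descendsAlong (P := @IsProper)
    (Q := (@Surjective ⊓ @Flat ⊓ @QuasiCompact : MorphismProperty Scheme.{u})) hsq.flip
    ⟨⟨hφ.1, hφ.2⟩, quasiCompact_of_compactSpace φ⟩ h

/-- Master criterion: a separated morphism of finite presentation with proper fibre at `y` is proper
near `y` as soon as, over the henselization, every clopen containing the closed fibre is everything. -/
theorem exists_nhd_of_meet [IsSeparated f] [LocallyOfFinitePresentation f] [QuasiCompact f] (y : Y)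
    (hy : IsProper (f.fiberToSpecResidueField y))
    (hmeet : ∀ P : (pullback f (henPoint y)).Opens, IsClosed (P : Set ↑(pullback f (henPoint y))) →
      (∀ x : ↑(pullback f (henPoint y)), pullback.snd f (henPoint y) x = IsLocalRing.closedPoint _ → x ∈ P) →
      ∀ x : ↑(pullback f (henPoint y)), x ∈ P) :
    ∃ U : Y.Opens, y ∈ U ∧ IsProper (f ∣_ U) :=
  exists_nhd_of_henselization f y
    (Henselian.isProper_of_forall (pullback.snd f (henPoint y)) (isProper_fibre_henPoint f y hy) hmeet)

end Groth.Agent.ProperFib.Spread
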